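import Mathlib
import Cfsg.Agent.Lib.Helper24.BT3POW
import Cfsg.Agent.Lib.Helper18.BT3ARITH
import Cfsg.Agent.Lib.Helper18.BT3BURN2
import Cfsg.Agent.Lib.Helper24.BT3IDX3
import Cfsg.Agent.Lib.Helper21.BT3CHI3
import Cfsg.Agent.Lib.Helper21.BT3HALL
import Cfsg.Agent.Lib.Helper13.BT3VAN3
import Cfsg.Agent.Lib.Helper13.BT3CEN3
import Cfsg.Agent.Lib.Helper29.BT3E2
import Cfsg.Agent.Lib.Helper29.BT3INT3
import Cfsg.Agent.Lib.Helper13.BT3COL
import Cfsg.Agent.Lib.Helper27.BT3NO3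
import Cfsg.Agent.Lib.Helper13.BT3FORM
import Cfsg.Agent.Lib.Helper27.BT3FIN98
import Cfsg.Agent.Lib.helper4.BT3P1Main
import Cfsg.Agent.Lib.helper8.Burnside
import Cfsg.Agent.Lib.helper2.CharInt
import Cfsg.Agent.Lib.helper23.BRPERF
import Cfsg.Agent.Lib.helper6.BTPERF
import Cfsg.Agent.Lib.Helper21.BTFAITH
import Cfsg.Agent.Lib.helper4.BTINV
import Cfsg.Agent.Lib.Helper13.BT.S0998Core

/-!
# Project BT3 (S4501) : assembly
-/

set_option autoImplicit false
set_option linter.unusedVariables false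
set_option linter.unusedSectionVars false
set_option linter.style.haveILetI false

namespace Cfsg.Agent.Lib.Helper13.BT3

open Classical
open scoped ComplexConjugate
open Cfsg.Agent.Lib.Helper25 Cfsg.Agent.Lib.Helper29
open Cfsg.Agent.Lib.helper7.BR
open Cfsg.Agent.Lib.helper8

universe u

variable {G : Type u} [Group G] [Fintype G]

/-- the exponent of `r` in `|G| = 3·r^t·2^s` is odd (when a character of degree `3` exists) -/
theorem exponent_odd [IsSimpleGroup G] (hnc : ¬ ∀ x y : G, x * y = y * x) (χ₃ : Cfsg.IrrCharacter G)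
    (hχ₃ : leoDeg χ₃ = 3) (r s t : ℕ) (hr : r.Prime) (hr2 : r ≠ 2) (hr3 : r ≠ 3)
    (hcard : Nat.card G = 3 * r ^ t * 2 ^ s) : Odd t := by
  have hr5 : 5 ≤ r := by
    have := hr.two_le
    by_contra hcon
    have : r = 4 := by omega
    rw [this] at hr
    exact (by decide : ¬ Nat.Prime 4) hr
  haveI : Fact (Nat.Prime 3) := ⟨Nat.prime_three⟩
  have hperf := Cfsg.Agent.Lib.Helper13.BT.perfect_of_simple hnc
  -- the Sylow 3-subgroup has order 3
  have hm3 : ¬ 3 ∣ r ^ t * 2 ^ s := by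
    intro h
    rcases (Nat.Prime.dvd_mul Nat.prime_three).mp h with h | h
    · exact hr3 ((Nat.prime_dvd_prime_iff_eq Nat.prime_three hr).mp
        (Nat.prime_three.dvd_of_dvd_pow h)).symm
    · have := (Nat.prime_dvd_prime_iff_eq Nat.prime_three Nat.prime_two).mp
        (Nat.prime_three.dvd_of_dvd_pow h)
      omega
  have hG' : Nat.card G = 3 ^ 1 * (r ^ t * 2 ^ s) := by rw [hcard]; ring
  obtain ⟨P⟩ : Nonempty (Sylow 3 G) := inferInstance
  have hP : Nat.card ↥(P : Subgroup G) = 3 := by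
    have := h8_sylow_card 3 1 (r ^ t * 2 ^ s) hG' hm3 P
    rwa [pow_one] at this
  have h9 : ¬ 9 ∣ Nat.card G := by
    intro h
    rw [hG', pow_one] at h
    have h9' : (9 : ℕ) = 3 * 3 := by norm_num
    rw [h9'] at h
    exact hm3 (Nat.dvd_of_mul_dvd_mul_left (by norm_num) h)
  have hvan := deg_three_vanish χ₃ hχ₃ h9
  have hcen := cen_three hnc P hP χ₃ hχ₃ hvan
  have he := rel_index_two hnc P hP
  obtain ⟨t₀, ht1, ht2, hinv⟩ := Cfsg.Agent.Lib.Helper13.BT.exists_inverting (p := 3) (by decide) P hP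
    hcen (by rw [he]; exact even_two)
  obtain ⟨χ, ψ, hχ1, hψ1, hχψ, hval, hdeg, hm3', hrel⟩ := three_chars P hP hcen t₀ hinv
  obtain ⟨u, hu, hform⟩ := order_formula P hP hcen t₀ ht1 ht2 hinv χ ψ hχ1 hψ1 hχψ hval hdeg hrel
  have hno3 := three_not_dvd_cent P hP hcen t₀ ht1 ht2
  -- degrees
  have hm2 : 2 ≤ leoDeg χ := by
    obtain ⟨d, hd2, hd⟩ := deg_ge_two hperf χ hχ1
    rw [leoDeg_spec] at hd
    have : leoDeg χ = d := by exact_mod_cast hd
    omega
  have hdvd : ∀ ξ : Cfsg.IrrCharacter G, leoDeg ξ ∣ Nat.card G := by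
    intro ξ
    obtain ⟨n, -, hn, hnd⟩ := Cfsg.Agent.Lib.helper2.irr_degree_dvd_card ξ
    rw [leoDeg_spec] at hn
    have : leoDeg ξ = n := by exact_mod_cast hn
    rwa [this]
  have hN : Nat.card G = 3 * 2 ^ s * r ^ t := by rw [hcard]; ring
  have hmd : leoDeg χ ∣ 3 * 2 ^ s * r ^ t := hN ▸ hdvd χ
  have hm1d : leoDeg χ + 1 ∣ 3 * 2 ^ s * r ^ t := by
    have := hdvd ψ
    rwa [hdeg, hN] at this
  have hcd : Nat.card ↥(Subgroup.centralizer ({t₀} : Set G)) ∣ 3 * 2 ^ s * r ^ t := by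
    rw [← hN]; exact Subgroup.card_subgroup_dvd_card _
  have hum : u ≠ (leoDeg χ : ℤ) := by
    intro h
    apply ht1
    apply Cfsg.Agent.Lib.Helper13.BT.faithful_of_simple χ hχ1 t₀
    rw [hu, leoDeg_spec, h]
    push_cast
    rfl
  have hform' : ((3 * 2 ^ s * r ^ t : ℕ) : ℤ) * ((leoDeg χ : ℤ) - u) ^ 2 =
      3 * (Nat.card ↥(Subgroup.centralizer ({t₀} : Set G)) : ℤ) ^ 2 * (leoDeg χ : ℤ) *
        ((leoDeg χ : ℤ) + 1) := by
    rw [← hN]; exact hform
  exact odd_exponent r s t (leoDeg χ) _ u hr hr5 hm2 hm3' hmd hm1d hcd hno3 hum hform'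

/-- PART 2 of S4501 -/
theorem part_two [IsSimpleGroup G] (hnc : ¬ ∀ x y : G, x * y = y * x) (p q a b : ℕ) (hp : p.Prime)
    (hq : q.Prime) (hpq : p ≠ q) (ha : a ≤ 2) (hcard : Nat.card G = 3 * p ^ a * q ^ b) :
    Nonempty (G ≃* alternatingGroup (Fin 5)) ∨
      Nonempty (G ≃* Matrix.ProjectiveSpecialLinearGroup (Fin 2) (ZMod 7)) := by
  by_cases hp3 : p = 3
  · exfalso
    subst hp3
    exact not_two_primes hnc 3 q (a + 1) b hp hq (by rw [hcard, pow_succ]; ring)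
  by_cases hq3 : q = 3
  · exfalso
    subst hq3
    exact not_two_primes hnc p 3 a (b + 1) hp hq (by rw [hcard, pow_succ]; ring)
  obtain ⟨χ₃, hχ₃⟩ := exists_deg_three hnc p q a b hp hq hpq hp3 hq3 ha hcard
  rcases two_mem hnc χ₃ hχ₃ p q a b hp hq hp3 hq3 hcard with h2 | h2
  · -- `p = 2`, `a ≤ 2`
    subst h2
    have hq2 : ¬ 2 ∣ q := fun h =>
      hpq ((Nat.prime_dvd_prime_iff_eq Nat.prime_two hq).mp h)
    interval_cases a
    · exfalso
      exact not_two_primes hnc 3 q 1 b Nat.prime_three hq (by rw [hcard]; ring)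
    · exfalso
      have hodd : ¬ 2 ∣ 3 * q ^ b := by
        intro h
        rcases (Nat.Prime.dvd_mul Nat.prime_two).mp h with h | h
        · omega
        · exact hq2 (Nat.prime_two.dvd_of_dvd_pow h)
      have hqb : 1 ≤ q ^ b := Nat.one_le_pow _ _ hq.pos
      exact Cfsg.Agent.Lib.Helper13.BT.bt98_two_mul_odd (G := G) (3 * q ^ b) (by rw [hcard]; ring) hodd
        (by omega)
    · left
      exact part_one hnc 3 q 1 b Nat.prime_three hq (Ne.symm hq3) (by norm_num)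
        (by rw [hcard]; ring)
  · -- `q = 2`
    subst h2
    have hodd := exponent_odd hnc χ₃ hχ₃ p b a hp hpq hp3 hcard
    have ha1 : a = 1 := by
      obtain ⟨k, hk⟩ := hodd
      omega
    subst ha1
    exact finish_98 hnc p b hp hpq hp3 (by rw [hcard, pow_one])

end Cfsg.Agent.Lib.Helper13.BT3
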